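import Mathlib
import Cfsg.Agent.GroupStructure3.HSOut.Index

/-!
The fixer of two points in M24 has no subgroup of order 3080.
-/

set_option autoImplicit false

namespace Cfsg.Agent.GroupStructure3.Co3Out

open Cfsg Cfsg.Agent.Golay.Basic Cfsg.Agent.Golay.Perm Cfsg.Agent.Golay.M24
  Cfsg.Agent.GroupStructure3.MathieuSub Cfsg.Agent.GroupStructure3.HSOut

local notation "pG" => Equiv.Perm GolayPt

variable {a b : GolayPt} (hab : a ≠ b) {L : Subgroup pG} (hL : L ≤ fixers M24 [a, b])
include hab hL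

theorem not_card_3080 : Nat.card L ≠ 3080 := by
  classical
  intro hc
  haveI : Fact (Nat.Prime 7) := ⟨by norm_num⟩
  haveI : Fact (Nat.Prime 2) := ⟨Nat.prime_two⟩
  have hLM : L ≤ M24 := hL.trans (fixers_le _ _)
  obtain ⟨P⟩ : Nonempty (Sylow 7 L) := inferInstance
  have hP : Nat.card (P : Subgroup L) = 7 := by
    rw [P.card_eq_multiplicity, hc, show (3080 : ℕ).factorization 7 = 1 from ?_, pow_one]
    rw [Nat.factorization_def _ (by norm_num : Nat.Prime 7), show (3080 : ℕ) = 7 * 440 by norm_num,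
      padicValNat.mul (by norm_num) (by norm_num), padicValNat.self (by norm_num),
      padicValNat.eq_zero_of_not_dvd (by norm_num)]
  set N := Subgroup.normalizer ((P : Subgroup L) : Set L) with hN
  have hn : Nat.card (Sylow 7 L) % 7 = 1 := card_sylow_modEq_one 7 L
  have hmul : Nat.card (Sylow 7 L) * Nat.card N = 3080 := by
    rw [P.card_eq_index_normalizer]
    show N.index * Nat.card N = _
    rw [Subgroup.index_mul_card, hc]
  set P' : Subgroup M24 := (P : Subgroup L).map (Subgroup.inclusion hLM) with hP'def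
  have hP' : Nat.card P' = 7 := by
    rw [hP'def, Subgroup.card_map_of_injective (Subgroup.inclusion_injective hLM), hP]
  have hmem : ∀ z : L, Subgroup.inclusion hLM z ∈ P' ↔ z ∈ (P : Subgroup L) := fun z =>
    Subgroup.mem_map_iff_mem (Subgroup.inclusion_injective hLM)
  have hle : N.map (Subgroup.inclusion hLM) ≤ Subgroup.normalizer (P' : Set M24) := by
    exact le_trans (Subgroup.le_normalizer_map _) (by simp [hP'def])
  have hdvd : Nat.card N ∣ 126 := by
    rw [← (Cfsg.Agent.S5604.result P' hP').1,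
      ← Subgroup.card_map_of_injective (K := N) (Subgroup.inclusion_injective hLM)]
    exact Subgroup.card_dvd_of_le hle
  have hd' : Nat.card N ∣ 3080 := Dvd.intro_left _ hmul
  have h7 : 7 ∣ Nat.card N := hP ▸ Subgroup.card_dvd_of_le Subgroup.le_normalizer
  have key : ∀ N ∈ Nat.divisors 126, N ∣ 3080 → 7 ∣ N → (3080 / N) % 7 = 1 → 2 ∣ N := by
    decide +kernel
  have h2 : 2 ∣ Nat.card N := key _ (Nat.mem_divisors.2 ⟨hdvd, by norm_num⟩) hd' h7 (by
    rw [← hmul, Nat.mul_div_cancel _ Nat.card_pos, hn])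
  obtain ⟨y, hy⟩ := exists_prime_orderOf_dvd_card' 2 h2
  obtain ⟨x, hx⟩ := exists_prime_orderOf_dvd_card' 7 (G := (P : Subgroup L)) (by rw [hP])
  have hxP : (P : Subgroup L) = Subgroup.zpowers (x : L) := by
    refine (Subgroup.eq_of_le_of_card_ge (Subgroup.zpowers_le.2 x.2) ?_).symm
    rw [Nat.card_zpowers, Subgroup.orderOf_coe, hx, hP]
  have hm : (y : L) * (x : L) * (y : L)⁻¹ ∈ Subgroup.zpowers (x : L) := by
    rw [← hxP]; exact (Subgroup.mem_normalizer_iff.1 y.2 _).1 x.2
  obtain ⟨k, -, hk⟩ := Finset.mem_image.1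
    ((isOfFinOrder_of_finite (x : L)).mem_zpowers_iff_mem_range_orderOf.1 hm)
  exact no_normalising hab hL (x := ((x : L) : pG)) (y := ((y : L) : pG)) (x : L).2 (y : L).2
    (by rw [Subgroup.orderOf_coe, Subgroup.orderOf_coe, hx])
    (by rw [Subgroup.orderOf_coe, Subgroup.orderOf_coe, hy]) (j := k)
    (by rw [← Subgroup.coe_inv, ← Subgroup.coe_mul, ← Subgroup.coe_mul, ← hk, Subgroup.coe_pow])

end Cfsg.Agent.GroupStructure3.Co3Out
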