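import Mathlib
import Cfsg.Agent.Lib.LeechAut.Conway23
import Cfsg.Agent.GroupStructure3.McLOut.Main

/-!
The stabiliser of a vector of squared length 48 on its 276 pairs; the normaliser of the two-vector
stabiliser inside it.
-/

set_option autoImplicit false
set_option maxRecDepth 10000

namespace Cfsg.Agent.GroupStructure3.Co3Out

open Cfsg Cfsg.Agent.Leech.Basic Cfsg.Agent.Leech.Index
open Cfsg.Agent.LeechAut
open Cfsg.Agent.LeechAut.Pairs (v0 sqNorm_v0 dot_comm)

/-- The sum of the two vectors. -/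
def u : leechLattice := v0 + McL.w1

local notation "GK" => MulAction.stabilizer Co0 u

instance finiteGK : Finite GK :=
  Nat.finite_of_card_ne_zero (by rw [Conway23.card_stab48 (v := u) Conway23.norm3]; norm_num)

theorem card_GK : Nat.card GK = 552 * 898128000 := Conway23.card_stab48 (v := u) Conway23.norm3

theorem dot_u (x : Vec) : dotInt (u : Vec) x = dotInt (v0 : Vec) x + dotInt (McL.w1 : Vec) x := by
  rw [u, AddSubgroup.coe_add, Triples.dot_add_left]

theorem dot_u_v0 : dotInt (u : Vec) (v0 : Vec) = 24 := by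
  rw [dot_u, Triples.dot_self, sqNorm_v0, dot_comm, McL.dot_v0w1]; norm_num

theorem smul_sub' (g : Co0) (a b : leechLattice) : g • (a - b) = g • a - g • b :=
  eq_sub_of_add_eq (by rw [← Basic.smul_add', sub_add_cancel])

theorem sub_v0 : u - v0 = McL.w1 := add_sub_cancel_left _ _

theorem sub_w1 : u - McL.w1 = v0 := add_sub_cancel_right _ _

theorem smul_w1 (g : GK) {a : leechLattice} (h : (g : Co0) • v0 = a) : (g : Co0) • McL.w1 = u - a := by
  have e : (g : Co0) • (u - v0) = u - a := by rw [smul_sub', g.2, h]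
  rwa [sub_v0] at e

/-- The stabiliser of the pair. -/
def M0 : Subgroup GK where
  carrier := {g | (g : Co0) • v0 = v0 ∨ (g : Co0) • v0 = McL.w1}
  mul_mem' := fun {g h} hg hh => by
    show ((g * h : GK) : Co0) • v0 = v0 ∨ _
    rw [Subgroup.coe_mul, mul_smul]
    rcases hh with e | e <;> rw [e]
    · exact hg
    · rcases hg with e' | e'
      · exact Or.inr ((smul_w1 g e').trans (by rw [sub_v0]))
      · exact Or.inl ((smul_w1 g e').trans (by rw [sub_w1]))
  one_mem' := Or.inl (one_smul _ _)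
  inv_mem' := fun {g} hg => by
    show ((g⁻¹ : GK) : Co0) • v0 = v0 ∨ _
    rw [Subgroup.coe_inv, inv_smul_eq_iff, inv_smul_eq_iff]
    rcases hg with e | e
    · exact Or.inl e.symm
    · exact Or.inr ((smul_w1 g e).trans (by rw [sub_w1])).symm

theorem G_le : McL.G ≤ GK := fun g hg => by
  obtain ⟨h1, h2⟩ := McL.mem_G.1 hg
  rw [MulAction.mem_stabilizer_iff, u, Basic.smul_add', h1, h2]

/-- The two-vector stabiliser inside. -/
def L0 : Subgroup GK := McL.G.subgroupOf GK

/-- It is the group. -/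
noncomputable def e0 : L0 ≃* McL.G := Subgroup.subgroupOfEquivOfLe G_le

theorem coe_e0 (l : L0) : ((e0 l : McL.G) : Co0) = ((l : GK) : Co0) := rfl

theorem mem_L0 {g : GK} : g ∈ L0 ↔ (g : Co0) • v0 = v0 := by
  refine ⟨fun h => (McL.mem_G.1 h).1, fun h => McL.mem_G.2 ⟨h, ?_⟩⟩
  exact (smul_w1 g h).trans sub_v0

theorem L0_le : L0 ≤ M0 := fun _ hg => Or.inl (mem_L0.1 hg)

theorem v0_ne_w1 : v0 ≠ McL.w1 := fun e => by
  have := McL.dot_v0w1
  rw [← e, Triples.dot_self, sqNorm_v0] at this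
  norm_num at this

theorem exists_swap : ∃ g ∈ M0, g ∉ L0 := by
  obtain ⟨h, hv, hw⟩ := Pairs.trans_pairs v0 McL.w1 McL.w1 v0 sqNorm_v0 McL.w1_norm McL.w1_norm sqNorm_v0
    (Or.inl (by rw [McL.dot_v0w1]; rfl)) (dot_comm _ _)
  refine ⟨⟨h, ?_⟩, Or.inr hv, fun hm => v0_ne_w1 ((mem_L0.1 hm).symm.trans hv)⟩
  rw [MulAction.mem_stabilizer_iff, u, Basic.smul_add', hv, hw, add_comm]

theorem relIndex_L0 : (L0.subgroupOf M0).index = 2 := by
  obtain ⟨a, ha, ha'⟩ := exists_swap
  have hsw : ∀ g : GK, g ∈ M0 → g ∉ L0 → (g : Co0) • v0 = McL.w1 := fun g hg hg' =>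
    hg.resolve_left fun e => hg' (mem_L0.2 e)
  refine Subgroup.index_eq_two_iff.2 ⟨⟨a, ha⟩, fun b => ?_⟩
  have hw : (a : Co0) • McL.w1 = v0 := (smul_w1 a (hsw a ha ha')).trans (by rw [sub_w1])
  by_cases hb : (b : GK) ∈ L0
  · refine Or.inr ⟨hb, fun h => ha' ?_⟩
    have h' : (b : GK) * a ∈ L0 := h
    exact (Subgroup.mul_mem_cancel_left _ hb).1 h'
  · refine Or.inl ⟨?_, hb⟩
    show (b : GK) * a ∈ L0
    rw [mem_L0, Subgroup.coe_mul, mul_smul, hsw a ha ha',
      smul_w1 b (hsw _ b.2 hb), sub_w1]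

theorem card_M0 : Nat.card M0 = 2 * 898128000 := by
  have h := (L0.subgroupOf M0).card_mul_index
  rw [relIndex_L0, Nat.card_congr (Subgroup.subgroupOfEquivOfLe L0_le).toEquiv,
    Nat.card_congr e0.toEquiv, McL.card_G] at h
  omega

/-- The 276 points. -/
abbrev R := GK ⧸ M0

/-- The base point. -/
abbrev r0 : R := ((1 : GK) : R)

theorem card_R : Nat.card R = 276 := by
  have h := Subgroup.card_eq_card_quotient_mul_card_subgroup M0
  rw [card_GK, card_M0] at h
  show Nat.card (GK ⧸ M0) = 276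
  omega

theorem smul_r0 (g : GK) : g • r0 = (g : R) := by
  rw [MulAction.Quotient.smul_coe, smul_eq_mul, mul_one]

theorem smul_eq_self {x g : GK} : x • (g : R) = (g : R) ↔ g⁻¹ * x * g ∈ M0 := by
  rw [MulAction.Quotient.smul_coe, smul_eq_mul, QuotientGroup.eq, ← inv_mem_iff (H := M0)]
  simp [mul_assoc]

theorem classify (g : GK) :
    g ∈ M0 ∨ McL275.InA ((g : Co0) • v0) ∨ McL275.InA (u - (g : Co0) • v0) := by
  set y := (g : Co0) • v0 with hy
  have hn : sqNorm (y : Vec) = 32 := (Basic.sqNorm_smul _ _).trans sqNorm_v0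
  have hu : dotInt (u : Vec) (y : Vec) = 24 := by
    have := Basic.dot_smul (g : Co0) u v0
    rwa [MulAction.mem_stabilizer_iff.1 g.2, dot_u_v0] at this
  have r1 := Moments.range32 sqNorm_v0 y (Moments.mem_short.2 hn)
  have r2 := Moments.range32 McL.w1_norm y (Moments.mem_short.2 hn)
  have hsum := (dot_u (y : Vec)).symm.trans hu
  simp only [Finset.mem_insert, Finset.mem_singleton] at r1 r2
  have cases4 : dotInt (v0 : Vec) (y : Vec) = 32 ∨ dotInt (McL.w1 : Vec) (y : Vec) = 32 ∨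
      (dotInt (v0 : Vec) (y : Vec) = 16 ∧ dotInt (McL.w1 : Vec) (y : Vec) = 8) ∨
      (dotInt (v0 : Vec) (y : Vec) = 8 ∧ dotInt (McL.w1 : Vec) (y : Vec) = 16) := by omega
  have eq_of : ∀ a : leechLattice, sqNorm (a : Vec) = 32 → dotInt (a : Vec) (y : Vec) = 32 → y = a := by
    intro a ha hd
    have h0 : sqNorm ((y - a : leechLattice) : Vec) = 0 := by
      rw [AddSubgroup.coe_sub, McL275.sqNorm_sub', hn, ha, dot_comm, hd]; norm_num
    refine sub_eq_zero.1 (Subtype.ext (funext fun p => ?_))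
    have := (Finset.sum_eq_zero_iff_of_nonneg fun i _ => sq_nonneg _).1 h0 p (Finset.mem_univ p)
    exact pow_eq_zero_iff two_ne_zero |>.1 this
  rcases cases4 with h | h | ⟨h, h'⟩ | ⟨h, h'⟩
  · exact Or.inl (Or.inl (eq_of v0 sqNorm_v0 h))
  · exact Or.inl (Or.inr (eq_of McL.w1 McL.w1_norm h))
  · exact Or.inr (Or.inl ⟨hn, h, h'⟩)
  · refine Or.inr (Or.inr ⟨?_, ?_, ?_⟩)
    · rw [AddSubgroup.coe_sub, McL275.sqNorm_sub', hn, hu,
        show sqNorm (u : Vec) = 48 from Conway23.norm3]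
      norm_num
    · have e : dotInt (v0 : Vec) ((u - y : leechLattice) : Vec) =
          dotInt (v0 : Vec) (u : Vec) - dotInt (v0 : Vec) (y : Vec) := by
        simp only [dotInt, AddSubgroup.coe_sub, Pi.sub_apply, mul_sub, Finset.sum_sub_distrib]
      rw [e, h, dot_comm, dot_u_v0]; norm_num
    · have e : dotInt (McL.w1 : Vec) ((u - y : leechLattice) : Vec) =
          dotInt (McL.w1 : Vec) (u : Vec) - dotInt (McL.w1 : Vec) (y : Vec) := by
        simp only [dotInt, AddSubgroup.coe_sub, Pi.sub_apply, mul_sub, Finset.sum_sub_distrib]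
      rw [e, h', dot_comm, dot_u, McL.dot_v0w1, Triples.dot_self, McL.w1_norm]; norm_num

/-- A point other than the base point gives one of the 275 vectors. -/
theorem exists_vec {r : R} (hr : r ≠ r0) : ∃ a : McLOut.A, ∃ g : GK, (g : R) = r ∧
    (a.1 = (g : Co0) • v0 ∨ a.1 = u - (g : Co0) • v0) ∧
    ∀ l : L0, (l : GK) • r = r ↔ e0 l • a = a := by
  obtain ⟨g, rfl⟩ := QuotientGroup.mk_surjective r
  have hg : g ∉ M0 := fun h => hr (QuotientGroup.eq.2 (by simpa using inv_mem h))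
  obtain ⟨a, ha⟩ : ∃ a : McLOut.A, a.1 = (g : Co0) • v0 ∨ a.1 = u - (g : Co0) • v0 := by
    rcases (classify g).resolve_left hg with h | h
    exacts [⟨⟨_, h⟩, Or.inl rfl⟩, ⟨⟨_, h⟩, Or.inr rfl⟩]
  refine ⟨a, g, rfl, ha, fun l => ?_⟩
  rw [smul_eq_self]
  show ((g⁻¹ * (l : GK) * g : GK) : Co0) • v0 = v0 ∨ ((g⁻¹ * (l : GK) * g : GK) : Co0) • v0 = McL.w1 ↔ _
  have hl : ((l : GK) : Co0) • u = u := (l : GK).2
  have hlv : ((l : GK) : Co0) • v0 = v0 := mem_L0.1 l.2
  have hga : (g : Co0) • McL.w1 = u - (g : Co0) • v0 := smul_w1 g rfl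
  rw [Subgroup.coe_mul, Subgroup.coe_mul, Subgroup.coe_inv, mul_smul, mul_smul, inv_smul_eq_iff,
    inv_smul_eq_iff, hga]
  constructor
  · rintro (h | h)
    · refine Subtype.ext ?_
      show ((l : GK) : Co0) • a.1 = a.1
      rcases ha with e | e <;> rw [e]
      · exact h
      · rw [smul_sub', hl, h]
    · exfalso
      -- the two vectors are told apart by `v0`
      have e1 := Basic.dot_smul ((l : GK) : Co0) v0 ((g : Co0) • v0)
      rw [hlv, h] at e1
      have e2 : dotInt (v0 : Vec) ((u - (g : Co0) • v0 : leechLattice) : Vec) =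
          dotInt (v0 : Vec) (u : Vec) - dotInt (v0 : Vec) (((g : Co0) • v0 : leechLattice) : Vec) := by
        simp only [dotInt, AddSubgroup.coe_sub, Pi.sub_apply, mul_sub, Finset.sum_sub_distrib]
      rw [e2, dot_comm (v0 : Vec) (u : Vec), dot_u_v0] at e1
      rcases ha with e | e
      · have := a.2.2.1
        rw [e] at this
        omega
      · have := a.2.2.1
        rw [e, e2, dot_comm (v0 : Vec) (u : Vec), dot_u_v0] at this
        omega
  · intro h
    have h' : ((l : GK) : Co0) • a.1 = a.1 := congrArg Subtype.val h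
    refine Or.inl ?_
    rcases ha with e | e <;> rw [e] at h'
    · exact h'
    · rw [smul_sub', hl] at h'
      exact sub_right_injective h'

/-- An element of order eleven fixes at most one point. -/
theorem fix_unique {x : GK} (hx : orderOf x = 11) {r s : R} (hr : x • r = r) (hs : x • s = s) :
    r = s := by
  obtain ⟨g, rfl⟩ := QuotientGroup.mk_surjective r
  set x' := g⁻¹ * x * g with hx'
  have hxM : x' ∈ M0 := smul_eq_self.1 hr
  have hord : orderOf x' = 11 := by
    rw [← hx]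
    exact orderOf_injective (MulAut.conj g⁻¹).toMonoidHom (MulAut.conj g⁻¹).injective x |>.symm ▸ by
      simp [hx', MulAut.conj_apply]
  have hxL : x' ∈ L0 := by
    by_contra hno
    have h := Subgroup.sq_mem_of_index_two relIndex_L0 ⟨x', hxM⟩
    have h2 : x' ^ 2 ∈ L0 := h
    have h11 : x' ^ 11 ∈ L0 := by
      rw [← hord, pow_orderOf_eq_one]; exact one_mem _
    refine hno ?_
    have := mul_mem h11 (inv_mem (pow_mem h2 5))
    rwa [← pow_mul, show x' ^ 11 * (x' ^ (2 * 5))⁻¹ = x' by group] at this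
  have hs' : x' • (g⁻¹ • s) = g⁻¹ • s := by
    rw [hx', mul_smul, mul_smul, smul_inv_smul, hs]
  have hs0 : g⁻¹ • s = r0 := by
    by_contra hne
    obtain ⟨a, -, -, -, hiff⟩ := exists_vec hne
    have ha := (hiff ⟨x', hxL⟩).1 hs'
    have hd := orderOf_dvd_natCard (⟨e0 ⟨x', hxL⟩, ha⟩ : MulAction.stabilizer McL.G a)
    rw [← Subgroup.orderOf_coe, McLOut.card_stab] at hd
    simp only [orderOf_injective e0.toMonoidHom e0.injective] at hd
    rw [show orderOf (e0 ⟨x', hxL⟩) = 11 by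
      rw [MulEquiv.orderOf_eq, ← Subgroup.orderOf_coe]; exact hord] at hd
    norm_num at hd
  rw [inv_smul_eq_iff, smul_r0] at hs0
  exact hs0.symm

theorem exists_eleven : ∃ x ∈ L0, orderOf x = 11 := by
  haveI : Fact (Nat.Prime 11) := ⟨by norm_num⟩
  obtain ⟨x, hx⟩ := exists_prime_orderOf_dvd_card' 11 (G := L0)
    (by rw [Nat.card_congr e0.toEquiv, McL.card_G]; norm_num)
  exact ⟨x, x.2, by rw [Subgroup.orderOf_coe, hx]⟩

theorem fix_L0 {r : R} (h : ∀ l ∈ L0, l • r = r) : r = r0 := by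
  obtain ⟨x, hxL, hx⟩ := exists_eleven
  exact fix_unique hx (h x hxL) (smul_eq_self.2 (by simpa using L0_le hxL))

theorem normalizer_L0 : Subgroup.normalizer (L0 : Set GK) = M0 := by
  apply le_antisymm
  · intro g hg
    have : (g : R) = r0 := fix_L0 fun l hl => smul_eq_self.2 (L0_le (by
      have := (Subgroup.mem_normalizer_iff.1 (inv_mem hg) l).1 hl
      simpa using this))
    simpa using QuotientGroup.eq.1 this.symm
  · intro g hg
    haveI := Subgroup.normal_of_index_eq_two relIndex_L0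
    refine Subgroup.mem_normalizer_iff.2 fun h => ⟨fun hh => ?_, fun hh => ?_⟩
    · exact Subgroup.Normal.conj_mem (H := L0.subgroupOf M0) inferInstance ⟨h, L0_le hh⟩ hh ⟨g, hg⟩
    · have e := Subgroup.Normal.conj_mem (H := L0.subgroupOf M0) inferInstance ⟨_, L0_le hh⟩ hh ⟨g, hg⟩⁻¹
      have e' : g⁻¹ * (g * h * g⁻¹) * g⁻¹⁻¹ ∈ L0 := e
      rwa [show g⁻¹ * (g * h * g⁻¹) * g⁻¹⁻¹ = h by group] at e'

end Cfsg.Agent.GroupStructure3.Co3Out
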