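import Mathlib
import Cfsg.Agent.GroupStructure3.Co3Out.Index
import Cfsg.Agent.GroupStructure3.Co3Out.Points
import Cfsg.Agent.GroupStructure3.MathieuSub.M22
import Cfsg.Prelude.Def_Spor_Conway
import Cfsg.Prelude.Def_KGroupFacts

/-!
Every automorphism of the stabiliser of a vector of squared length 48 is inner.
-/

set_option autoImplicit false
set_option maxRecDepth 10000

namespace Cfsg.Agent.GroupStructure3.Co3Out

open Cfsg Cfsg.Agent.Golay.Basic Cfsg.Agent.Golay.Perm Cfsg.Agent.Leech.Basic Cfsg.Agent.Leech.Index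
open Cfsg.Agent.LeechAut
open Cfsg.Agent.LeechAut.Pairs (v0 sqNorm_v0)

local notation "pG" => Equiv.Perm GolayPt
local notation "GK" => MulAction.stabilizer Co0 u

theorem mem_stab_x0 {g : McL.G} : g ∈ MulAction.stabilizer McL.G McL.x0 ↔ (g : Co0) ∈ McL.S := by
  rw [McL.stab_x0, Subgroup.mem_subgroupOf]

theorem class_subset {a : ℤ} (ha : a ≠ 4) (K : Subgroup McL.G)
    (hK : MulAction.stabilizer McL.G McL.x0 ≤ K) {y : McL.X}
    (hy : y ∈ MulAction.orbit K McL.x0) (hya : (y.1 : Vec) none = a) {z : McL.X}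
    (hza : (z.1 : Vec) none = a) : z ∈ MulAction.orbit K McL.x0 := by
  obtain ⟨g, hg, e⟩ := McL.S_trans y.2 z.2 (McL.ne_w0 hya ha) (McL.ne_w0 hza ha) (hya.trans hza.symm)
  obtain ⟨k, rfl⟩ := hy
  refine ⟨⟨⟨g, McL.S_le_G hg⟩, hK (mem_stab_x0.2 hg)⟩ * k, Subtype.ext ?_⟩
  show ((g * ((k : McL.G) : Co0)) • McL.x0.1 : leechLattice) = z.1
  rw [mul_smul]
  exact e

theorem top_of_index_le {K : Subgroup McL.G} (hK : MulAction.stabilizer McL.G McL.x0 ≤ K)
    (hi : K.index ≤ 276) : K = ⊤ := by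
  classical
  haveI : Finite McL.X := Nat.finite_of_card_ne_zero (by rw [McL.card_X]; norm_num)
  set B := MulAction.orbit K McL.x0 with hB
  have hcard : B.ncard * 443520 = Nat.card K := by
    rw [← Subgroup.index_mul_card (MulAction.stabilizer K McL.x0), MulAction.index_stabilizer, ← hB]
    congr 1
    rw [← McL.card_S, ← Nat.card_congr (Subgroup.subgroupOfEquivOfLe McL.S_le_G).toEquiv, ← McL.stab_x0]
    exact Nat.card_congr ⟨fun g => ⟨⟨g.1, hK g.2⟩, g.2⟩, fun g => ⟨g.1.1, g.2⟩, fun g => rfl, fun g => rfl⟩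
  have hmul := K.card_mul_index
  rw [← hcard, McL.card_G] at hmul
  have hmul' : B.ncard * K.index = 2025 := by
    refine Nat.eq_of_mul_eq_mul_left (show 0 < 443520 by norm_num) ?_
    rw [← mul_assoc, mul_comm 443520 B.ncard, hmul]
  let V : ℤ → Set McL.X := fun a => {z | (z.1 : Vec) none = a}
  have hV : ∀ (a : ℤ) (n : ℕ), {y : leechLattice | McL.InX y ∧ (y : Vec) none = a}.ncard = n →
      a ≠ 4 → (B ∩ V a).ncard = 0 ∨ (B ∩ V a).ncard = n := by
    intro a n hn ha
    rcases (B ∩ V a).eq_empty_or_nonempty with h | ⟨y, hy, hya⟩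
    · exact Or.inl (by rw [h, Set.ncard_empty])
    · refine Or.inr ?_
      have hs : B ∩ V a = V a :=
        Set.inter_eq_right.2 fun z hz => class_subset ha K hK hy hya hz
      rw [hs, ← hn,
        ← Set.ncard_image_of_injective (V a) Subtype.val_injective]
      refine congrArg Set.ncard (Set.ext fun w => ?_)
      exact ⟨fun ⟨u, hu, e⟩ => e ▸ ⟨u.2, hu⟩, fun ⟨hw, hk⟩ => ⟨⟨w, hw⟩, hk, rfl⟩⟩
  have hsum : B.ncard = 1 + (B ∩ V 0).ncard + (B ∩ V 2).ncard + (B ∩ V 1).ncard := by
    have e : B = ({McL.x0} ∪ (B ∩ V 0)) ∪ (B ∩ V 2) ∪ (B ∩ V 1) := by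
      refine Set.Subset.antisymm (fun z hz => ?_) ?_
      · rcases McL.value_cases z.2 with h | h | h | h
        · exact Or.inl (Or.inl (Or.inl (Subtype.ext h)))
        · exact Or.inl (Or.inl (Or.inr ⟨hz, h⟩))
        · exact Or.inl (Or.inr ⟨hz, h⟩)
        · exact Or.inr ⟨hz, h⟩
      · rintro z (((rfl | h) | h) | h)
        exacts [MulAction.mem_orbit_self _, h.1, h.1, h.1]
    have h4 : (McL.x0.1 : Vec) none = 4 := McL.w0_none
    conv_lhs => rw [e]
    rw [Set.ncard_union_eq, Set.ncard_union_eq, Set.ncard_union_eq, Set.ncard_singleton]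
    · rw [Set.disjoint_singleton_left]
      rintro ⟨-, h⟩
      change (McL.x0.1 : Vec) none = 0 at h
      omega
    · rw [Set.disjoint_left]
      rintro z (rfl | ⟨-, h⟩) ⟨-, h'⟩
      · change (McL.x0.1 : Vec) none = 2 at h'; omega
      · change (z.1 : Vec) none = 0 at h; change (z.1 : Vec) none = 2 at h'; omega
    · rw [Set.disjoint_left]
      rintro z ((rfl | ⟨-, h⟩) | ⟨-, h⟩) ⟨-, h'⟩
      · change (McL.x0.1 : Vec) none = 1 at h'; omega
      · change (z.1 : Vec) none = 0 at h; change (z.1 : Vec) none = 1 at h'; omega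
      · change (z.1 : Vec) none = 2 at h; change (z.1 : Vec) none = 1 at h'; omega
  have key : ∀ a ∈ [0, 330], ∀ b ∈ [0, 462], ∀ c ∈ [0, 1232],
      (1 + a + b + c) ∣ 2025 → 1 + a + b + c = 1 ∨ 1 + a + b + c = 2025 := by decide +kernel
  have m0 : (B ∩ V 0).ncard ∈ [0, 330] := by
    rcases hV 0 330 McL.card_zero (by norm_num) with h | h <;> simp [h]
  have m2 : (B ∩ V 2).ncard ∈ [0, 462] := by
    rcases hV 2 462 McL.card_twos (by norm_num) with h | h <;> simp [h]
  have m1 : (B ∩ V 1).ncard ∈ [0, 1232] := by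
    rcases hV 1 1232 McL.card_ones (by norm_num) with h | h <;> simp [h]
  rcases key _ m0 _ m2 _ m1 (hsum ▸ Dvd.intro _ hmul') with h | h
  · rw [← hsum] at h; rw [h] at hmul'; omega
  · rw [← hsum] at h; rw [h] at hmul'
    exact Subgroup.index_eq_one.1 (by omega)

/-- The two-point fixer inside. -/
def fS : McL.M22s →* GK :=
  (Subgroup.inclusion G_le).comp ((Subgroup.inclusion McL.S_le_G).comp McL.liftHom)

theorem fS_injective : Function.Injective fS :=
  (Subgroup.inclusion_injective G_le).comp ((Subgroup.inclusion_injective McL.S_le_G).comp McL.liftHom_bijective.1)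

/-- Any copy of the group fixes a point. -/
theorem exists_point (φ : GK ≃* GK) : ∃ r : R, ∀ l ∈ L0, φ l • r = r := by
  classical
  haveI : Fact (Nat.Prime 11) := ⟨by norm_num⟩
  let ι : McL.M22s →* GK := φ.toMonoidHom.comp fS
  have hι : Function.Injective ι := φ.injective.comp fS_injective
  set H := ι.range with hHdef
  let E := MonoidHom.ofInjective hι
  have hHc : Nat.card H = 443520 := by
    rw [← Nat.card_congr E.toEquiv]
    exact Cfsg.Agent.Golay.Trans.card_stabilizer_two McLOut.none_ne_pt0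
  let f : H →* pG := (M24.subtype.comp McL.M22s.subtype).comp E.symm.toMonoidHom
  have hf : Function.Injective f :=
    (M24.subtype_injective.comp McL.M22s.subtype_injective).comp E.symm.injective
  have hfle : f.range ≤ fixers M24 [none, pt 0] := by
    rintro _ ⟨h, rfl⟩
    let s := E.symm h
    refine ⟨s.1.2, fun w hw => ?_⟩
    simp only [List.mem_cons, List.not_mem_nil, or_false] at hw
    obtain ⟨h1, h2⟩ := McL.mem_M22s.1 s.2
    rcases hw with rfl | rfl
    exacts [h1, h2]
  obtain ⟨x, hx⟩ := exists_prime_orderOf_dvd_card' 11 (G := H) (by rw [hHc]; norm_num)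
  have hx' : orderOf (x : GK) = 11 := by rw [Subgroup.orderOf_coe, hx]
  have hpg : IsPGroup 11 (Subgroup.zpowers x) :=
    IsPGroup.of_card (n := 1) (by rw [Nat.card_zpowers, hx, pow_one])
  have hmodR := hpg.card_modEq_card_fixedPoints R
  obtain ⟨z, hz⟩ : ∃ z : R, x • z = z := by
    by_contra hno
    push Not at hno
    have h0 : Nat.card (MulAction.fixedPoints (Subgroup.zpowers x) R) = 0 := by
      rw [Nat.card_eq_zero]
      exact Or.inl ⟨fun w => hno w.1 (w.2 ⟨x, Subgroup.mem_zpowers x⟩)⟩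
    rw [h0, card_R] at hmodR
    exact absurd hmodR (by decide)
  set O : Set R := MulAction.orbit H z with hO
  have hk11 : O.ncard % 11 = 1 := by
    have hm := hpg.card_modEq_card_fixedPoints ↥O
    have h1 : Nat.card (MulAction.fixedPoints (Subgroup.zpowers x) ↥O) = 1 := by
      rw [Nat.card_eq_one_iff_unique]
      refine ⟨⟨fun a b => Subtype.ext (Subtype.ext ?_)⟩, ⟨⟨⟨z, MulAction.mem_orbit_self z⟩, ?_⟩⟩⟩
      · exact fix_unique hx' (congrArg Subtype.val (a.2 ⟨x, Subgroup.mem_zpowers x⟩))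
          (congrArg Subtype.val (b.2 ⟨x, Subgroup.mem_zpowers x⟩))
      · intro k
        exact Subtype.ext ((Subgroup.zpowers_le.2 (show x ∈ MulAction.stabilizer H z from hz)) k.2)
    rw [h1, Nat.card_coe_set_eq] at hm
    exact hm
  have hk276 : O.ncard ≤ 276 := by
    rw [← card_R, ← Set.ncard_univ]
    exact Set.ncard_le_ncard (Set.subset_univ _) Set.finite_univ
  have hmul : O.ncard * Nat.card (MulAction.stabilizer H z) = 443520 := by
    rw [← hHc, ← Subgroup.index_mul_card (MulAction.stabilizer H z), MulAction.index_stabilizer]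
  have key : ∀ k ≤ 276, k % 11 = 1 → k ∣ 443520 →
      k = 1 ∨ k = 12 ∨ k = 45 ∨ k = 56 ∨ k = 144 ∨ k = 210 := by decide +kernel
  set Q := (MulAction.stabilizer H z).map f with hQ
  have hQc : Nat.card Q = Nat.card (MulAction.stabilizer H z) := Subgroup.card_map_of_injective hf
  have hQle : Q ≤ fixers M24 [none, pt 0] := (Subgroup.map_le_range _ _).trans hfle
  have hne0 : (none : GolayPt) ≠ pt 0 := by decide
  rcases key _ hk276 hk11 (Dvd.intro _ hmul) with h | h | h | h | h | h
  · -- the whole copy fixes the point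
    refine ⟨z, ?_⟩
    let ψ : McL.G →* GK := φ.toMonoidHom.comp (Subgroup.inclusion G_le)
    letI : MulAction McL.G R := MulAction.compHom R ψ
    have hKi : (MulAction.stabilizer McL.G z).index ≤ 276 := by
      rw [MulAction.index_stabilizer, ← card_R, ← Set.ncard_univ]
      exact Set.ncard_le_ncard (Set.subset_univ _) Set.finite_univ
    have hle : MulAction.stabilizer McL.G McL.x0 ≤ MulAction.stabilizer McL.G z := by
      intro g hg
      obtain ⟨σ, hσ⟩ := McL.liftHom_bijective.2 ⟨g.1, mem_stab_x0.1 hg⟩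
      rw [hO, Set.ncard_eq_one] at h
      obtain ⟨w, hw⟩ := h
      have h1 : (E σ : H) • z ∈ ({w} : Set R) := hw ▸ MulAction.mem_orbit z _
      have h2 : z ∈ ({w} : Set R) := hw ▸ MulAction.mem_orbit_self z
      have h3 : φ (fS σ) • z = z := (Set.mem_singleton_iff.1 h1).trans (Set.mem_singleton_iff.1 h2).symm
      have e : fS σ = Subgroup.inclusion G_le g :=
        Subtype.ext (show ((McL.liftHom σ : McL.S) : Co0) = g.1 by rw [hσ])
      rw [e] at h3
      exact h3
    have htop := top_of_index_le hle hKi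
    intro l hl
    have hm : (⟨(l : Co0), hl⟩ : McL.G) ∈ MulAction.stabilizer McL.G z := htop ▸ Subgroup.mem_top _
    exact hm
  · exact absurd (by rw [hQc]; rw [h] at hmul; omega) (HSOut.not_card_36960 hne0 hQle)
  · exact absurd (by rw [hQc]; rw [h] at hmul; omega) (HSOut.not_card_9856 hne0 hQle)
  · exact absurd (by rw [hQc]; rw [h] at hmul; omega) (MathieuSub.not_card_7920 hne0 hQle)
  · exact absurd (by rw [hQc]; rw [h] at hmul; omega) (not_card_3080 hne0 hQle)
  · exact absurd (by rw [hQc]; rw [h] at hmul; omega) (MathieuSub.not_card_2112 hne0 hQle)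

theorem isSimple_GK : IsSimpleGroup GK := Conway23.isSimple3

theorem isSimple_L0 : IsSimpleGroup L0 := e0.isSimpleGroup_congr.2 McL.isSimple_G

/-- An automorphism can be followed by an inner one to keep `L0`. -/
theorem exists_conj (φ : GK ≃* GK) :
    ∃ g : GK, L0.map (φ.trans (MulAut.conj g)).toMonoidHom = L0 := by
  classical
  obtain ⟨r, hr⟩ := exists_point φ
  obtain ⟨g, rfl⟩ := QuotientGroup.mk_surjective r
  refine ⟨g⁻¹, ?_⟩
  set φ1 := φ.trans (MulAut.conj g⁻¹) with hφ1
  have happ : ∀ l, φ1 l = g⁻¹ * φ l * g := fun l => by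
    show g⁻¹ * φ l * g⁻¹⁻¹ = _
    rw [inv_inv]
  have hM : ∀ l ∈ L0, φ1 l ∈ M0 := fun l hl => happ l ▸ smul_eq_self.1 (hr l hl)
  -- the part landing in `L0` is normal
  let j : L0 →* M0 := (φ1.toMonoidHom.comp L0.subtype).codRestrict M0 fun l => hM l l.2
  haveI := Subgroup.normal_of_index_eq_two relIndex_L0
  haveI := isSimple_L0
  have hall : (L0.subgroupOf M0).comap j = ⊤ := by
    refine (IsSimpleGroup.eq_bot_or_eq_top_of_normal _ inferInstance).resolve_left fun hbot => ?_
    obtain ⟨x, hxL, hx⟩ := exists_eleven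
    have h2 : (j ⟨x, hxL⟩) ^ 2 ∈ L0.subgroupOf M0 := Subgroup.sq_mem_of_index_two relIndex_L0 _
    rw [← map_pow] at h2
    have h1 : ((⟨x, hxL⟩ : L0) ^ 2) ∈ (⊥ : Subgroup L0) := hbot ▸ h2
    rw [Subgroup.mem_bot] at h1
    have : orderOf x ∣ 2 := orderOf_dvd_of_pow_eq_one (congrArg Subtype.val h1)
    rw [hx] at this
    norm_num at this
  refine Subgroup.eq_of_le_of_card_ge ?_ (by rw [Subgroup.card_map_of_injective φ1.injective])
  rintro _ ⟨l, hl, rfl⟩
  exact (show (⟨l, hl⟩ : L0) ∈ (L0.subgroupOf M0).comap j from hall ▸ Subgroup.mem_top _ :)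

/-- An automorphism fixing `L0` pointwise is the identity. -/
theorem eq_refl_of_fix (φ : GK ≃* GK) (hfix : ∀ l ∈ L0, φ l = l) : ∀ g, φ g = g := by
  classical
  have hM : ∀ g ∈ M0, φ g ∈ M0 := by
    intro g hg
    rw [← normalizer_L0] at hg ⊢
    refine Subgroup.mem_normalizer_iff.2 fun h => ⟨fun hh => ?_, fun hh => ?_⟩
    · have e := (Subgroup.mem_normalizer_iff.1 hg h).1 hh
      rw [← hfix h hh, ← map_inv, ← map_mul, ← map_mul, hfix _ e]
      exact e
    · obtain ⟨h', rfl⟩ := φ.surjective h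
      rw [← map_inv, ← map_mul, ← map_mul] at hh
      have e1 : g * h' * g⁻¹ = φ (g * h' * g⁻¹) := φ.injective (hfix _ hh).symm
      rw [← e1] at hh
      have h2 := (Subgroup.mem_normalizer_iff.1 hg h').2 hh
      rw [hfix h' h2]
      exact h2
  let σ : R → R := fun r => Quotient.map' φ (fun a b hab => by
    rw [QuotientGroup.leftRel_apply] at hab ⊢
    rw [← map_inv, ← map_mul]
    exact hM _ hab) r
  have hσ : ∀ g : GK, σ (g : R) = ((φ g : GK) : R) := fun g => rfl
  have hσinj : ∀ g : GK, φ g ∈ M0 → g ∈ M0 := by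
    intro g hg
    rw [← normalizer_L0] at hg ⊢
    refine Subgroup.mem_normalizer_iff.2 fun h => ⟨fun hh => ?_, fun hh => ?_⟩
    · have e := (Subgroup.mem_normalizer_iff.1 hg h).1 hh
      have e2 : φ (g * h * g⁻¹) = φ g * h * (φ g)⁻¹ := by rw [map_mul, map_mul, map_inv, hfix h hh]
      have e3 : g * h * g⁻¹ = φ g * h * (φ g)⁻¹ := φ.injective (e2.trans (hfix _ e).symm)
      rw [e3]; exact e
    · have e := hfix _ hh
      rw [map_mul, map_mul, map_inv] at e
      have e' : φ h ∈ L0 := (Subgroup.mem_normalizer_iff.1 hg (φ h)).2 (e ▸ hh)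
      rw [← φ.injective (hfix _ e')]
      exact e'
  have hid : ∀ r : R, σ r = r := by
    intro r
    by_cases hr : r = r0
    · subst hr; rw [hσ, map_one]
    obtain ⟨g, rfl⟩ := QuotientGroup.mk_surjective r
    rw [hσ]
    have hr' : ((φ g : GK) : R) ≠ r0 := fun e => hr (QuotientGroup.eq.2 (by
      have := QuotientGroup.eq.1 e
      rw [mul_one] at this ⊢
      exact inv_mem (hσinj g (by simpa using inv_mem this))))
    have hstab : ∀ l : L0, (l : GK) • (g : R) = (g : R) ↔ (l : GK) • ((φ g : GK) : R) = ((φ g : GK) : R) := by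
      intro l
      rw [smul_eq_self, smul_eq_self]
      have e : (φ g)⁻¹ * (l : GK) * φ g = φ (g⁻¹ * l * g) := by
        rw [map_mul, map_mul, map_inv, hfix _ l.2]
      rw [e]
      exact ⟨hM _, hσinj _⟩
    obtain ⟨a, g1, e1, ha, hA⟩ := exists_vec hr
    obtain ⟨b, g2, e2, hb, hB⟩ := exists_vec hr'
    have hab : a = b := McLOut.stab_injective (by
      ext m
      obtain ⟨l, rfl⟩ := e0.surjective m
      rw [MulAction.mem_stabilizer_iff, MulAction.mem_stabilizer_iff, ← hA, ← hB, hstab])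
    subst hab
    rw [← e1, ← e2]
    refine QuotientGroup.eq.2 ?_
    show ((g2⁻¹ * g1 : GK) : Co0) • v0 = v0 ∨ ((g2⁻¹ * g1 : GK) : Co0) • v0 = McL.w1
    rw [Subgroup.coe_mul, Subgroup.coe_inv, mul_smul, inv_smul_eq_iff, inv_smul_eq_iff,
      smul_w1 g2 rfl]
    rcases ha with h | h <;> rcases hb with h' | h'
    · exact Or.inl (h.symm.trans h')
    · exact Or.inr (h.symm.trans h')
    · refine Or.inr ?_
      rw [← h', h, sub_sub_cancel]
    · exact Or.inl (sub_right_injective (h.symm.trans h'))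
  intro g
  haveI := isSimple_GK
  have hcore : M0.normalCore = ⊥ := by
    refine (IsSimpleGroup.eq_bot_or_eq_top_of_normal _ inferInstance).resolve_right fun h => ?_
    have : M0 = ⊤ := top_le_iff.1 (h ▸ Subgroup.normalCore_le M0)
    have hc := card_M0
    rw [this, Subgroup.card_top, card_GK] at hc
    norm_num at hc
  have hmem : g⁻¹ * φ g ∈ M0.normalCore := by
    intro k
    have h1 := hid (((k * g⁻¹ : GK)⁻¹ : GK) : R)
    rw [hσ, map_inv, map_mul, map_inv] at h1
    have h2 := hid ((k⁻¹ : GK) : R)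
    rw [hσ, map_inv] at h2
    have h3 : (φ g) • (k⁻¹ : GK) = g * k⁻¹ → True := fun _ => trivial
    have h4 := QuotientGroup.eq.1 h1
    have h5 := QuotientGroup.eq.1 h2
    simp only [mul_inv_rev, inv_inv] at h4 h5
    have : k * (g⁻¹ * φ g) * k⁻¹ = ((φ k * (φ g)⁻¹) * (g * k⁻¹))⁻¹ * (φ k * k⁻¹) := by group
    rw [this]
    exact mul_mem (inv_mem h4) h5
  rw [hcore, Subgroup.mem_bot, inv_mul_eq_one] at hmem
  exact hmem.symm

theorem center_eq_bot : Subgroup.center GK = ⊥ := by
  haveI := isSimple_GK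
  refine (IsSimpleGroup.eq_bot_or_eq_top_of_normal _ inferInstance).resolve_right fun h => ?_
  haveI : IsMulCommutative GK := ⟨⟨fun a b => ((Subgroup.mem_center_iff.1 (h ▸ Subgroup.mem_top a)) b).symm⟩⟩
  have hp : (Nat.card GK).Prime := by
    letI : CommGroup GK := { (inferInstance : Group GK) with mul_comm := mul_comm' }
    exact IsSimpleGroup.prime_card
  rw [card_GK] at hp
  exact absurd hp (Nat.not_prime_mul (a := 552) (b := 898128000) (by norm_num) (by norm_num))

/-- Every automorphism is inner. -/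
theorem all_inner (φ : GK ≃* GK) : φ ∈ (MulAut.conj : GK →* MulAut GK).range := by
  classical
  obtain ⟨g, hg⟩ := exists_conj φ
  set φ1 := φ.trans (MulAut.conj g) with hφ1
  haveI := Subgroup.normal_of_index_eq_two relIndex_L0
  let N := L0.subgroupOf M0
  let eN : N ≃* L0 := Subgroup.subgroupOfEquivOfLe L0_le
  let ψ : M0 →* MulAut N := MulAut.conjNormal
  have hψ : Function.Injective ψ := by
    rw [injective_iff_map_eq_one]
    intro m hm
    have hf : ∀ l ∈ L0, MulAut.conj (m : GK) l = l := fun l hl => by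
      have := DFunLike.congr_fun hm (⟨⟨l, L0_le hl⟩, hl⟩ : N)
      exact congrArg (fun n : N => ((n : M0) : GK)) this
    have hz : (m : GK) ∈ Subgroup.center GK := Subgroup.mem_center_iff.2 fun k => by
      have := eq_refl_of_fix _ hf k
      rw [MulAut.conj_apply, mul_inv_eq_iff_eq_mul] at this
      exact this.symm
    rw [center_eq_bot, Subgroup.mem_bot] at hz
    exact Subtype.ext hz
  have hc : Nat.card (MulAut N) = Nat.card M0 := by
    rw [Nat.card_congr (MulAut.congr (eN.trans e0)).toEquiv, McLOut.card_mulAut, card_M0]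
  haveI : Finite (MulAut N) := Nat.finite_of_card_ne_zero (by rw [hc, card_M0]; norm_num)
  have hsurj := ((Nat.bijective_iff_injective_and_card ψ).2 ⟨hψ, hc.symm⟩).2
  let θ : N ≃* N := (eN.trans ((φ1.subgroupMap L0).trans (MulEquiv.subgroupCongr hg))).trans eN.symm
  obtain ⟨m, hm⟩ := hsurj θ
  have hf : ∀ l ∈ L0, (φ1.trans (MulAut.conj (m : GK)⁻¹)) l = l := fun l hl => by
    have e := congrArg (fun n : N => ((n : M0) : GK)) (DFunLike.congr_fun hm (⟨⟨l, L0_le hl⟩, hl⟩ : N))
    have e' : (m : GK) * l * (m : GK)⁻¹ = φ1 l := e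
    show (m : GK)⁻¹ * φ1 l * (m : GK)⁻¹⁻¹ = l
    rw [← e']; group
  refine ⟨g⁻¹ * m, MulEquiv.ext fun k => ?_⟩
  have e : (m : GK)⁻¹ * (g * φ k * g⁻¹) * (m : GK)⁻¹⁻¹ = k := eq_refl_of_fix _ hf k
  rw [MulAut.conj_apply]
  conv_lhs => rw [← e]
  group

theorem card_out : Nat.card (Cfsg.Out ↥Spor.Co3) = 1 := by
  obtain ⟨t, ht⟩ := Shells.transitive48 Spor.leechV u (by decide +kernel) Conway23.norm3
  obtain ⟨E1⟩ := Conway23.stab_equiv ht
  let E0 : Spor.Co3 ≃* ↥(MulAction.stabilizer Co0 Spor.leechV) :=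
    { toFun := fun g => ⟨⟨(g : Equiv.Perm leechLattice), g.2.1⟩, g.2.2⟩
      invFun := fun g => ⟨((g : Co0) : Equiv.Perm leechLattice), ⟨(g : Co0).2, g.2⟩⟩
      left_inv := fun g => rfl
      right_inv := fun g => rfl
      map_mul' := fun g h => rfl }
  let E := E0.trans E1
  have htop : Cfsg.Inn ↥Spor.Co3 = ⊤ := by
    rw [eq_top_iff]
    intro ψ _
    obtain ⟨k, hk⟩ := all_inner ((E.symm.trans ψ).trans E)
    refine ⟨E.symm k, MulEquiv.ext fun s => ?_⟩
    have e := DFunLike.congr_fun hk (E s)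
    rw [MulAut.conj_apply] at e
    simp only [MulEquiv.trans_apply, MulEquiv.symm_apply_apply] at e
    rw [MulAut.conj_apply, ← E.symm_apply_apply (ψ s), ← e]
    simp
  show (Cfsg.Inn ↥Spor.Co3).index = 1
  rw [htop, Subgroup.index_top]

end Cfsg.Agent.GroupStructure3.Co3Out
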